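import Mathlib

/-!
Quasi-homeomorphisms of topological spaces.
-/

set_option autoImplicit false
universe u
open TopologicalSpace Topology Set
open scoped Set.Notation
set_option linter.style.haveILetI false

namespace Groth.Agent.QuasiHomeo

variable {X : Type u} {Y : Type u} [TopologicalSpace X] [TopologicalSpace Y]

/-- Preimage is a bijection on open sets. -/
structure QH (f : X → Y) : Prop where
  cont : Continuous f
  inj : ∀ U₁ U₂ : Set Y, IsOpen U₁ → IsOpen U₂ → f ⁻¹' U₁ = f ⁻¹' U₂ → U₁ = U₂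
  surj : ∀ V : Set X, IsOpen V → ∃ U : Set Y, IsOpen U ∧ f ⁻¹' U = V

theorem QH.of_bijective {f : X → Y} (hf : Continuous f)
    (hq : Function.Bijective (fun U : Opens Y =>
      (⟨f ⁻¹' (U : Set Y), U.isOpen.preimage hf⟩ : Opens X))) : QH f where
  cont := hf
  inj U₁ U₂ h₁ h₂ h :=
    congrArg (fun U : Opens Y => (U : Set Y)) (@hq.1 ⟨U₁, h₁⟩ ⟨U₂, h₂⟩ (Opens.ext h))
  surj V hV := by
    obtain ⟨U, hU⟩ := hq.2 ⟨V, hV⟩
    exact ⟨U, U.isOpen, congrArg (fun U : Opens X => (U : Set X)) hU⟩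

/-- A finite union of locally closed sets. -/
def IsQC (Z : Set Y) : Prop := ∃ T : Set (Set Y), T.Finite ∧ (∀ t ∈ T, IsLocallyClosed t) ∧ Z = ⋃₀ T

/-- Locally on the space a finite union of locally closed sets. -/
def IsLQC (Z : Set Y) : Prop :=
  ∀ y : Y, ∃ U : Set Y, IsOpen U ∧ y ∈ U ∧
    ∃ T : Set (Set Y), T.Finite ∧ (∀ t ∈ T, IsLocallyClosed t) ∧ U ∩ Z = ⋃₀ T

/-- Every point of the set has a locally closed neighbourhood inside it. -/
def IsLCO (s : Set Y) : Prop := ∀ y ∈ s, ∃ L, IsLocallyClosed L ∧ y ∈ L ∧ L ⊆ s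

theorem IsLCO.inter {s t : Set Y} (hs : IsLCO s) (ht : IsLCO t) : IsLCO (s ∩ t) := by
  rintro y ⟨hys, hyt⟩
  obtain ⟨L, hL, hyL, hLs⟩ := hs y hys
  obtain ⟨M, hM, hyM, hMt⟩ := ht y hyt
  exact ⟨L ∩ M, hL.inter hM, ⟨hyL, hyM⟩, inter_subset_inter hLs hMt⟩

theorem IsLCO.union {s t : Set Y} (hs : IsLCO s) (ht : IsLCO t) : IsLCO (s ∪ t) := by
  rintro y (hy | hy)
  · obtain ⟨L, hL, hyL, hLs⟩ := hs y hy
    exact ⟨L, hL, hyL, hLs.trans subset_union_left⟩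
  · obtain ⟨L, hL, hyL, hLs⟩ := ht y hy
    exact ⟨L, hL, hyL, hLs.trans subset_union_right⟩

theorem isLCO_of_isLocallyClosed {s : Set Y} (h : IsLocallyClosed s) : IsLCO s :=
  fun _ hy => ⟨s, h, hy, subset_rfl⟩

theorem isLCO_compl_of_isLocallyClosed {s : Set Y} (h : IsLocallyClosed s) : IsLCO sᶜ := by
  obtain ⟨U, Z, hU, hZ, rfl⟩ := h
  rw [compl_inter]
  exact (isLCO_of_isLocallyClosed hU.isClosed_compl.isLocallyClosed).union
    (isLCO_of_isLocallyClosed hZ.isOpen_compl.isLocallyClosed)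

theorem IsQC.isLCO {Z : Set Y} (h : IsQC Z) : IsLCO Z ∧ IsLCO Zᶜ := by
  obtain ⟨T, hT, hlc, rfl⟩ := h
  induction T, hT using Set.Finite.induction_on with
  | empty =>
    simp only [sUnion_empty, compl_empty]
    exact ⟨fun y hy => hy.elim, isLCO_of_isLocallyClosed isOpen_univ.isLocallyClosed⟩
  | @insert t T _ _ ih =>
    rw [sUnion_insert, compl_union]
    obtain ⟨h1, h2⟩ := ih (fun s hs => hlc s (mem_insert_of_mem _ hs))
    exact ⟨(isLCO_of_isLocallyClosed (hlc t (mem_insert _ _))).union h1,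
      (isLCO_compl_of_isLocallyClosed (hlc t (mem_insert _ _))).inter h2⟩

theorem IsLQC.isLCO {Z : Set Y} (h : IsLQC Z) : IsLCO Z ∧ IsLCO Zᶜ := by
  constructor
  · intro y hy
    obtain ⟨U, hU, hyU, T, hT, hlc, heq⟩ := h y
    obtain ⟨L, hL, hyL, hLs⟩ := (IsQC.isLCO ⟨T, hT, hlc, heq⟩).1 y ⟨hyU, hy⟩
    exact ⟨L, hL, hyL, hLs.trans inter_subset_right⟩
  · intro y hy
    obtain ⟨U, hU, hyU, T, hT, hlc, heq⟩ := h y
    obtain ⟨L, hL, hyL, hLs⟩ := (IsQC.isLCO ⟨T, hT, hlc, heq⟩).2 y (fun hh => hy hh.2)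
    exact ⟨U ∩ L, hU.isLocallyClosed.inter hL, ⟨hyU, hyL⟩, fun z hz hzZ => hLs hz.2 ⟨hz.1, hzZ⟩⟩

theorem isLCO_of_isConstructible {Z : Set Y} (h : IsConstructible Z) : IsLCO Z ∧ IsLCO Zᶜ := by
  induction h using IsConstructible.empty_union_induction with
  | open_retrocompact U hU _ =>
    exact ⟨isLCO_of_isLocallyClosed hU.isLocallyClosed,
      isLCO_compl_of_isLocallyClosed hU.isLocallyClosed⟩
  | union s _ t _ hs ht => exact ⟨hs.1.union ht.1, by rw [compl_union]; exact hs.2.inter ht.2⟩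
  | compl s _ hs => exact ⟨hs.2, by rw [compl_compl]; exact hs.1⟩

theorem image_subtype_isLocallyClosed {U : Set Y} (hU : IsLocallyClosed U) {L : Set U}
    (hL : IsLocallyClosed L) : IsLocallyClosed (Subtype.val '' L) :=
  hL.image IsEmbedding.subtypeVal.isInducing (by simpa using hU)

theorem isLCO_of_isLocallyConstructible {Z : Set Y} (h : IsLocallyConstructible Z) :
    IsLCO Z ∧ IsLCO Zᶜ := by
  constructor
  · intro y hy
    obtain ⟨U, hyU, hU, hc⟩ := h y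
    obtain ⟨L, hL, hyL, hLs⟩ := (isLCO_of_isConstructible hc).1 ⟨y, mem_of_mem_nhds hyU⟩ hy
    exact ⟨_, image_subtype_isLocallyClosed hU.isLocallyClosed hL, ⟨_, hyL, rfl⟩,
      by rintro _ ⟨a, ha, rfl⟩; exact hLs ha⟩
  · intro y hy
    obtain ⟨U, hyU, hU, hc⟩ := h y
    obtain ⟨L, hL, hyL, hLs⟩ := (isLCO_of_isConstructible hc).2 ⟨y, mem_of_mem_nhds hyU⟩ hy
    exact ⟨_, image_subtype_isLocallyClosed hU.isLocallyClosed hL, ⟨_, hyL, rfl⟩,
      by rintro _ ⟨a, ha, rfl⟩; exact hLs ha⟩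

variable {f : X → Y}

theorem QH.eq_empty_of_lc (hq : QH f) {L : Set Y} (hL : IsLocallyClosed L) (h : f ⁻¹' L = ∅) :
    L = ∅ := by
  obtain ⟨U, Z, hU, hZ, rfl⟩ := hL
  have : U = U ∩ Zᶜ := hq.inj _ _ hU (hU.inter hZ.isOpen_compl) (by
    rw [preimage_inter] at h ⊢
    rw [preimage_compl]
    exact (inter_eq_left.mpr fun x hx hxZ => by
      have : x ∈ (∅ : Set X) := h ▸ ⟨hx, hxZ⟩
      exact this.elim).symm)
  rw [eq_empty_iff_forall_notMem]
  rintro y ⟨hyU, hyZ⟩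
  exact (this ▸ hyU : y ∈ U ∩ Zᶜ).2 hyZ

theorem QH.subset_iff (hq : QH f) {s t : Set Y} (hs : IsLCO s) (ht : IsLCO tᶜ) :
    f ⁻¹' s ⊆ f ⁻¹' t ↔ s ⊆ t := by
  refine ⟨fun h y hy => ?_, fun h => preimage_mono h⟩
  by_contra hyt
  obtain ⟨L, hL, hyL, hLst⟩ := (hs.inter ht) y ⟨hy, hyt⟩
  have : L = ∅ := hq.eq_empty_of_lc hL (eq_empty_iff_forall_notMem.mpr fun x hx =>
    (hLst hx).2 (h (hLst hx).1))
  rw [this] at hyL
  exact hyL

theorem QH.preimage_injective (hq : QH f) {s t : Set Y} (hs : IsLCO s ∧ IsLCO sᶜ)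
    (ht : IsLCO t ∧ IsLCO tᶜ) (h : f ⁻¹' s = f ⁻¹' t) : s = t :=
  ((hq.subset_iff hs.1 ht.2).mp h.le).antisymm ((hq.subset_iff ht.1 hs.2).mp h.ge)

theorem QH.exists_closed (hq : QH f) {C : Set X} (hC : IsClosed C) :
    ∃ D : Set Y, IsClosed D ∧ f ⁻¹' D = C := by
  obtain ⟨U, hU, hUC⟩ := hq.surj _ hC.isOpen_compl
  exact ⟨Uᶜ, hU.isClosed_compl, by rw [preimage_compl, hUC, compl_compl]⟩

theorem QH.exists_lc (hq : QH f) {L : Set X} (hL : IsLocallyClosed L) :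
    ∃ M : Set Y, IsLocallyClosed M ∧ f ⁻¹' M = L := by
  obtain ⟨U, Z, hU, hZ, rfl⟩ := hL
  obtain ⟨U', hU', rfl⟩ := hq.surj U hU
  obtain ⟨Z', hZ', rfl⟩ := hq.exists_closed hZ
  exact ⟨U' ∩ Z', hU'.isLocallyClosed.inter hZ'.isLocallyClosed, rfl⟩

theorem QH.exists_qc (hq : QH f) {Z : Set X} (h : IsQC Z) : ∃ W : Set Y, IsQC W ∧ f ⁻¹' W = Z := by
  obtain ⟨T, hT, hlc, rfl⟩ := h
  choose M hM hMeq using fun t : T => hq.exists_lc (hlc t.1 t.2)
  haveI := hT.to_subtype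
  refine ⟨⋃₀ Set.range M, ⟨Set.range M, finite_range M, by rintro _ ⟨t, rfl⟩; exact hM t, rfl⟩, ?_⟩
  rw [sUnion_range, preimage_iUnion, sUnion_eq_iUnion]
  exact iUnion_congr hMeq

theorem IsQC.preimage (hf : Continuous f) {Z : Set Y} (h : IsQC Z) : IsQC (f ⁻¹' Z) := by
  obtain ⟨T, hT, hlc, rfl⟩ := h
  refine ⟨(fun t => f ⁻¹' t) '' T, hT.image _, by rintro _ ⟨t, ht, rfl⟩; exact (hlc t ht).preimage hf, ?_⟩
  rw [sUnion_image, preimage_sUnion]

/-- The largest candidate set with the given preimage. -/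
def descend (f : X → Y) (Z : Set X) : Set Y := {y | ∃ L, IsLocallyClosed L ∧ y ∈ L ∧ f ⁻¹' L ⊆ Z}

theorem QH.descend_inter (hq : QH f) {U : Set Y} (hU : IsOpen U) {Z : Set X} {W : Set Y}
    (hW : IsLCO W ∧ IsLCO Wᶜ) (hWU : W ⊆ U) (h : f ⁻¹' W = f ⁻¹' U ∩ Z) :
    U ∩ descend f Z = W := by
  refine Subset.antisymm ?_ fun y hy => ⟨hWU hy, ?_⟩
  · rintro y ⟨hyU, L, hL, hyL, hLZ⟩
    exact (hq.subset_iff (isLCO_of_isLocallyClosed (hU.isLocallyClosed.inter hL)) hW.2).mp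
      (by rw [h]; exact fun x hx => ⟨hx.1, hLZ hx.2⟩) ⟨hyU, hyL⟩
  · obtain ⟨L, hL, hyL, hLW⟩ := hW.1 y hy
    exact ⟨L, hL, hyL, (preimage_mono hLW).trans (h.le.trans inter_subset_right)⟩

theorem QH.cover (hq : QH f) {P : Set Y → Prop}
    (h : ∀ x : X, ∃ U, IsOpen U ∧ f x ∈ U ∧ P U) : ∀ y : Y, ∃ U, IsOpen U ∧ y ∈ U ∧ P U := by
  choose U hU hxU hP using h
  have : ⋃ x, U x = univ := hq.inj _ _ (isOpen_iUnion hU) isOpen_univ
    (eq_univ_of_forall fun x => mem_iUnion.mpr ⟨x, hxU x⟩)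
  intro y
  obtain ⟨x, hx⟩ := mem_iUnion.mp (this.symm ▸ mem_univ y : y ∈ ⋃ x, U x)
  exact ⟨U x, hU x, hx, hP x⟩

theorem QH.exists_lqc (hq : QH f) {Z : Set X} (h : IsLQC Z) : ∃ W : Set Y, IsLQC W ∧ f ⁻¹' W = Z := by
  refine ⟨descend f Z, hq.cover (P := fun U => ∃ T : Set (Set Y), T.Finite ∧
      (∀ t ∈ T, IsLocallyClosed t) ∧ U ∩ descend f Z = ⋃₀ T) fun x => ?_, ?_⟩
  · obtain ⟨V, hV, hxV, hqc⟩ := h x
    obtain ⟨U, hU, rfl⟩ := hq.surj V hV
    obtain ⟨W, hWqc, hWeq⟩ := hq.exists_qc (Z := f ⁻¹' U ∩ Z) hqc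
    have hUW : IsQC (U ∩ W) := by
      obtain ⟨T, hT, hlc, rfl⟩ := hWqc
      refine ⟨(fun t => U ∩ t) '' T, hT.image _, ?_, ?_⟩
      · rintro _ ⟨t, ht, rfl⟩
        exact hU.isLocallyClosed.inter (hlc t ht)
      · rw [sUnion_image, sUnion_eq_biUnion, inter_iUnion₂]
    refine ⟨U, hU, hxV, ?_⟩
    rw [hq.descend_inter hU hUW.isLCO inter_subset_left (by rw [preimage_inter, hWeq]; simp)]
    exact hUW
  · ext x
    obtain ⟨V, hV, hxV, hqc⟩ := h x
    obtain ⟨U, hU, rfl⟩ := hq.surj V hV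
    obtain ⟨W, hWqc, hWeq⟩ := hq.exists_qc (Z := f ⁻¹' U ∩ Z) hqc
    constructor
    · rintro ⟨L, hL, hxL, hLZ⟩
      exact hLZ hxL
    · intro hx
      obtain ⟨L, hL, hxL, hLW⟩ := hWqc.isLCO.1 (f x) (show x ∈ f ⁻¹' W from hWeq.symm ▸ ⟨hxV, hx⟩)
      exact ⟨L, hL, hxL, (preimage_mono hLW).trans (hWeq.le.trans inter_subset_right)⟩

theorem IsLQC.preimage (hf : Continuous f) {Z : Set Y} (h : IsLQC Z) : IsLQC (f ⁻¹' Z) := by
  intro x
  obtain ⟨U, hU, hxU, hqc⟩ := h (f x)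
  exact ⟨f ⁻¹' U, hU.preimage hf, hxU, IsQC.preimage hf (Z := U ∩ Z) hqc⟩

theorem QH.restrictPreimage (hq : QH f) {S : Set Y} (hS : IsLCO S ∧ IsLCO Sᶜ) :
    QH (S.restrictPreimage f) where
  cont := hq.cont.restrictPreimage
  inj U₁ U₂ h₁ h₂ h := by
    obtain ⟨O₁, hO₁, rfl⟩ := isOpen_induced_iff.mp h₁
    obtain ⟨O₂, hO₂, rfl⟩ := isOpen_induced_iff.mp h₂
    have key : ∀ O : Set Y, IsOpen O → IsLCO (O ∩ S) ∧ IsLCO (O ∩ S)ᶜ := fun O hO =>
      ⟨(isLCO_of_isLocallyClosed hO.isLocallyClosed).inter hS.1, by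
        rw [compl_inter]; exact (isLCO_compl_of_isLocallyClosed hO.isLocallyClosed).union hS.2⟩
    have : O₁ ∩ S = O₂ ∩ S := hq.preimage_injective (key _ hO₁) (key _ hO₂) (by
      ext x
      constructor <;> rintro ⟨ha, hb⟩
      · exact ⟨(Set.ext_iff.mp h ⟨x, hb⟩).mp ha, hb⟩
      · exact ⟨(Set.ext_iff.mp h ⟨x, hb⟩).mpr ha, hb⟩)
    ext ⟨y, hy⟩
    exact ⟨fun ha => (this ▸ ⟨ha, hy⟩ : y ∈ O₂ ∩ S).1, fun ha => (this.symm ▸ ⟨ha, hy⟩ : y ∈ O₁ ∩ S).1⟩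
  surj V hV := by
    obtain ⟨O, hO, rfl⟩ := isOpen_induced_iff.mp hV
    obtain ⟨U, hU, rfl⟩ := hq.surj O hO
    exact ⟨Subtype.val ⁻¹' U, hU.preimage continuous_subtype_val, rfl⟩

theorem QH.compactSpace_iff (hq : QH f) : CompactSpace Y ↔ CompactSpace X := by
  simp only [← isCompact_univ_iff, isCompact_iff_finite_subcover]
  constructor
  · intro h ι U hU hcov
    choose V hV hVU using fun i => hq.surj (U i) (hU i)
    have : ⋃ i, V i = univ := hq.inj _ _ (isOpen_iUnion hV) isOpen_univ (by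
      rw [preimage_iUnion, iUnion_congr hVU, preimage_univ]
      exact univ_subset_iff.mp hcov)
    obtain ⟨t, ht⟩ := h V hV this.ge
    refine ⟨t, fun x hx => ?_⟩
    obtain ⟨i, hi, hxi⟩ := mem_iUnion₂.mp (ht (mem_univ (f x)))
    exact mem_iUnion₂.mpr ⟨i, hi, hVU i ▸ hxi⟩
  · intro h ι V hV hcov
    obtain ⟨t, ht⟩ := h (fun i => f ⁻¹' V i) (fun i => (hV i).preimage hq.cont)
      (fun x _ => by
        obtain ⟨i, hi⟩ := mem_iUnion.mp (hcov (mem_univ (f x)))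
        exact mem_iUnion.mpr ⟨i, hi⟩)
    have : ⋃ i ∈ t, V i = univ := hq.inj _ _ (isOpen_biUnion fun i _ => hV i) isOpen_univ (by
      rw [preimage_iUnion₂, preimage_univ]; exact univ_subset_iff.mp ht)
    exact ⟨t, this.ge⟩

theorem QH.isCompact_iff (hq : QH f) {S : Set Y} (hS : IsLCO S ∧ IsLCO Sᶜ) :
    IsCompact S ↔ IsCompact (f ⁻¹' S) := by
  rw [isCompact_iff_compactSpace, isCompact_iff_compactSpace,
    (hq.restrictPreimage hS).compactSpace_iff]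

theorem QH.noetherianSpace_iff (hq : QH f) : NoetherianSpace Y ↔ NoetherianSpace X := by
  have key : ∀ U : Set Y, IsOpen U → (IsCompact U ↔ IsCompact (f ⁻¹' U)) := fun U hU =>
    hq.isCompact_iff ⟨isLCO_of_isLocallyClosed hU.isLocallyClosed,
      isLCO_compl_of_isLocallyClosed hU.isLocallyClosed⟩
  constructor
  · intro h
    refine (noetherianSpace_iff_opens X).mpr fun V => ?_
    obtain ⟨U, hU, hUV⟩ := hq.surj V V.isOpen
    rw [← hUV, ← key U hU]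
    exact NoetherianSpace.isCompact U
  · intro h
    refine (noetherianSpace_iff_opens Y).mpr fun U => ?_
    rw [key U U.isOpen]
    exact NoetherianSpace.isCompact _

theorem QH.isRetrocompact_iff (hq : QH f) {S : Set Y} (hS : IsLCO S ∧ IsLCO Sᶜ) :
    (∀ U : Set Y, IsOpen U → IsCompact U → IsCompact (U ∩ S)) ↔
      (∀ V : Set X, IsOpen V → IsCompact V → IsCompact (V ∩ f ⁻¹' S)) := by
  have key : ∀ U : Set Y, IsOpen U → IsLCO (U ∩ S) ∧ IsLCO (U ∩ S)ᶜ := fun O hO =>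
      ⟨(isLCO_of_isLocallyClosed hO.isLocallyClosed).inter hS.1, by
        rw [compl_inter]; exact (isLCO_compl_of_isLocallyClosed hO.isLocallyClosed).union hS.2⟩
  have hop : ∀ U : Set Y, IsOpen U → IsLCO U ∧ IsLCO Uᶜ := fun O hO =>
    ⟨isLCO_of_isLocallyClosed hO.isLocallyClosed, isLCO_compl_of_isLocallyClosed hO.isLocallyClosed⟩
  constructor
  · intro h V hV hVc
    obtain ⟨U, hU, rfl⟩ := hq.surj V hV
    rw [← preimage_inter, ← hq.isCompact_iff (key U hU)]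
    exact h U hU ((hq.isCompact_iff (hop U hU)).mpr hVc)
  · intro h U hU hUc
    rw [hq.isCompact_iff (key U hU), preimage_inter]
    exact h _ (hU.preimage hq.cont) ((hq.isCompact_iff (hop U hU)).mp hUc)

theorem QH.isRetrocompact_preimage (hq : QH f) {U : Set Y} (hU : IsOpen U) :
    IsRetrocompact U ↔ IsRetrocompact (f ⁻¹' U) := by
  have h := hq.isRetrocompact_iff (S := U) ⟨isLCO_of_isLocallyClosed hU.isLocallyClosed,
    isLCO_compl_of_isLocallyClosed hU.isLocallyClosed⟩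
  simp only [IsRetrocompact]
  constructor
  · intro h1 V hc ho
    rw [inter_comm]
    exact h.mp (fun U' ho' hc' => by rw [inter_comm]; exact h1 hc' ho') V ho hc
  · intro h1 V hc ho
    rw [inter_comm]
    exact h.mpr (fun U' ho' hc' => by rw [inter_comm]; exact h1 hc' ho') V ho hc

theorem QH.isConstructible_preimage (hq : QH f) {Z : Set Y} (h : IsConstructible Z) :
    IsConstructible (f ⁻¹' Z) :=
  h.preimage hq.cont fun _ hs hr => (hq.isRetrocompact_preimage hs).mp hr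

theorem QH.exists_constructible (hq : QH f) {Z : Set X} (h : IsConstructible Z) :
    ∃ W : Set Y, IsConstructible W ∧ f ⁻¹' W = Z := by
  induction h using IsConstructible.empty_union_induction with
  | open_retrocompact V hV hr =>
    obtain ⟨U, hU, rfl⟩ := hq.surj V hV
    exact ⟨U, ((hq.isRetrocompact_preimage hU).mpr hr).isConstructible hU, rfl⟩
  | union s _ t _ hs ht =>
    obtain ⟨a, ha, rfl⟩ := hs
    obtain ⟨b, hb, rfl⟩ := ht
    exact ⟨a ∪ b, ha.union hb, preimage_union⟩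
  | compl s _ hs =>
    obtain ⟨a, ha, rfl⟩ := hs
    exact ⟨aᶜ, ha.compl, preimage_compl⟩

theorem QH.isLocallyConstructible_preimage (hq : QH f) {Z : Set Y} (h : IsLocallyConstructible Z) :
    IsLocallyConstructible (f ⁻¹' Z) := by
  intro x
  obtain ⟨U, hxU, hU, hc⟩ := h (f x)
  refine ⟨f ⁻¹' U, (hU.preimage hq.cont).mem_nhds (mem_of_mem_nhds hxU :), hU.preimage hq.cont, ?_⟩
  exact (hq.restrictPreimage ⟨isLCO_of_isLocallyClosed hU.isLocallyClosed,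
    isLCO_compl_of_isLocallyClosed hU.isLocallyClosed⟩).isConstructible_preimage hc

theorem QH.exists_locallyConstructible (hq : QH f) {Z : Set X} (h : IsLocallyConstructible Z) :
    ∃ W : Set Y, IsLocallyConstructible W ∧ f ⁻¹' W = Z := by
  refine ⟨descend f Z, fun y => ?_, ?_⟩
  · obtain ⟨U, hU, hyU, hc⟩ := hq.cover (P := fun U => IsConstructible (U ↓∩ descend f Z)) (fun x => by
      obtain ⟨V, hxV, hV, hc⟩ := h x
      obtain ⟨U, hU, rfl⟩ := hq.surj V hV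
      have hres := hq.restrictPreimage ⟨isLCO_of_isLocallyClosed hU.isLocallyClosed,
        isLCO_compl_of_isLocallyClosed hU.isLocallyClosed⟩
      obtain ⟨W, hW, hWeq⟩ := hres.exists_constructible hc
      refine ⟨U, hU, (mem_of_mem_nhds hxV :), ?_⟩
      suffices U ↓∩ descend f Z = W by rw [this]; exact hW
      have hLC : IsLCO (Subtype.val '' W) ∧ IsLCO (Subtype.val '' W)ᶜ := by
        obtain ⟨h1, h2⟩ := isLCO_of_isConstructible hW
        constructor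
        · rintro _ ⟨a, ha, rfl⟩
          obtain ⟨L, hL, haL, hLW⟩ := h1 a ha
          exact ⟨_, image_subtype_isLocallyClosed hU.isLocallyClosed hL, ⟨a, haL, rfl⟩,
            image_mono hLW⟩
        · intro y hy
          by_cases hyU : y ∈ U
          · obtain ⟨L, hL, haL, hLW⟩ := h2 ⟨y, hyU⟩ (fun ha => hy ⟨_, ha, rfl⟩)
            refine ⟨_, image_subtype_isLocallyClosed hU.isLocallyClosed hL, ⟨_, haL, rfl⟩, ?_⟩
            rintro _ ⟨a, ha, rfl⟩ ⟨b, hb, hab⟩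
            exact hLW ha (Subtype.ext hab ▸ hb)
          · exact ⟨Uᶜ, hU.isClosed_compl.isLocallyClosed, hyU, by
              rintro z hz ⟨a, _, rfl⟩; exact hz a.2⟩
      have key := hq.descend_inter hU hLC (Z := Z) (by rintro _ ⟨a, _, rfl⟩; exact a.2) (by
        ext x'
        constructor
        · rintro ⟨⟨a, haU⟩, ha, (rfl : a = f x')⟩
          exact ⟨haU, (Set.ext_iff.mp hWeq ⟨x', haU⟩).mp ha⟩
        · rintro ⟨hxU, hxZ⟩
          exact ⟨⟨f x', hxU⟩, (Set.ext_iff.mp hWeq ⟨x', hxU⟩).mpr hxZ, rfl⟩)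
      ext ⟨a, ha⟩
      constructor
      · intro hd
        obtain ⟨b, hb, rfl⟩ := (key ▸ ⟨ha, hd⟩ : a ∈ Subtype.val '' W)
        exact hb
      · intro hb
        exact ((key.symm ▸ ⟨⟨a, ha⟩, hb, rfl⟩ : a ∈ U ∩ descend f Z)).2) y
    exact ⟨U, hU.mem_nhds hyU, hU, hc⟩
  · ext x
    constructor
    · rintro ⟨L, hL, hxL, hLZ⟩
      exact hLZ hxL
    · intro hx
      obtain ⟨L, hL, hxL, hLZ⟩ := (isLCO_of_isLocallyConstructible h).1 x hx
      obtain ⟨M, hM, rfl⟩ := hq.exists_lc hL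
      exact ⟨M, hM, hxL, hLZ⟩

theorem qh_of_veryDense {X₀ : Set X}
    (h : ∀ Z : Set X, IsLocallyClosed Z → Z.Nonempty → (Z ∩ X₀).Nonempty) :
    QH (Subtype.val : X₀ → X) where
  cont := continuous_subtype_val
  inj := by
    have key : ∀ U₁ U₂ : Set X, IsOpen U₁ → IsOpen U₂ →
        (Subtype.val ⁻¹' U₁ : Set X₀) ⊆ Subtype.val ⁻¹' U₂ → U₁ ⊆ U₂ := by
      intro U₁ U₂ h₁ h₂ hsub y hy
      by_contra hy2
      obtain ⟨z, ⟨hz1, hz2⟩, hz0⟩ := h (U₁ ∩ U₂ᶜ)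
        (h₁.isLocallyClosed.inter h₂.isClosed_compl.isLocallyClosed) ⟨y, hy, hy2⟩
      exact hz2 (hsub (show (⟨z, hz0⟩ : X₀) ∈ Subtype.val ⁻¹' U₁ from hz1))
    exact fun U₁ U₂ h₁ h₂ h => (key _ _ h₁ h₂ h.le).antisymm (key _ _ h₂ h₁ h.ge)
  surj V hV := by
    obtain ⟨O, hO, rfl⟩ := isOpen_induced_iff.mp hV
    exact ⟨O, hO, rfl⟩

end Groth.Agent.QuasiHomeo

namespace Groth.Agent.QuasiHomeo

variable {Y : Type u} [TopologicalSpace Y]

theorem IsQC.isLQC {Z : Set Y} (h : IsQC Z) : IsLQC Z := fun y =>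
  ⟨univ, isOpen_univ, mem_univ y, by rw [univ_inter]; exact h⟩

theorem isLQC_of_isLocallyClosed {Z : Set Y} (h : IsLocallyClosed Z) : IsLQC Z :=
  IsQC.isLQC ⟨{Z}, finite_singleton Z, fun t ht => by rw [mem_singleton_iff.mp ht]; exact h,
    (sUnion_singleton Z).symm⟩

theorem IsLQC.inter_open {Z O : Set Y} (h : IsLQC Z) (hO : IsOpen O) : IsLQC (O ∩ Z) := by
  intro y
  obtain ⟨U, hU, hyU, T, hT, hlc, heq⟩ := h y
  refine ⟨U, hU, hyU, (fun t => O ∩ t) '' T, hT.image _, ?_, ?_⟩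
  · rintro _ ⟨t, ht, rfl⟩
    exact hO.isLocallyClosed.inter (hlc t ht)
  · rw [sUnion_image, inter_left_comm, heq, sUnion_eq_biUnion, inter_iUnion₂]

/-- The subspace form of local quasi-constructibility. -/
theorem isLQC_iff_subtype {Z : Set Y} : IsLQC Z ↔ ∀ y : Y, ∃ V : Set Y, IsOpen V ∧ y ∈ V ∧
    ∃ T : Set (Set V), T.Finite ∧ (∀ t ∈ T, IsLocallyClosed t) ∧
      (Subtype.val ⁻¹' Z : Set V) = ⋃₀ T := by
  refine forall_congr' fun y => exists_congr fun V => and_congr_right fun hV =>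
    and_congr_right fun _ => ?_
  constructor
  · rintro ⟨T, hT, hlc, heq⟩
    refine ⟨(fun t => Subtype.val ⁻¹' t) '' T, hT.image _, ?_, ?_⟩
    · rintro _ ⟨t, ht, rfl⟩
      exact (hlc t ht).preimage continuous_subtype_val
    · rw [sUnion_image, ← preimage_sUnion, ← heq]
      ext x
      exact ⟨fun h => ⟨x.2, h⟩, fun h => h.2⟩
  · rintro ⟨T, hT, hlc, heq⟩
    refine ⟨(fun t => Subtype.val '' t) '' T, hT.image _, ?_, ?_⟩
    · rintro _ ⟨t, ht, rfl⟩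
      exact image_subtype_isLocallyClosed hV.isLocallyClosed (hlc t ht)
    · rw [sUnion_image, ← image_iUnion₂, ← sUnion_eq_biUnion, ← heq,
        Subtype.image_preimage_coe]

end Groth.Agent.QuasiHomeo
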